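import Cfsg.Agent.H10.Ru.Data
import Mathlib.Algebra.QuadraticAlgebra.Basic

/-!
The Rudvalis lattice modulo four: an upper bound by congruences on an adapted basis.
-/

set_option autoImplicit false

namespace Cfsg.Agent.H10.Ru

open Cfsg.Spor

/-- The Gaussian integers modulo four. -/
abbrev R4 := QuadraticAlgebra (ZMod 4) (-1) 0

instance : Fintype R4 := Fintype.ofEquiv _ (QuadraticAlgebra.equivProd (-1 : ZMod 4) 0).symm

/-- Reduction modulo four. -/
def red4 : GaussianInt →+* R4 where
  toFun z := ⟨(z.re : ZMod 4), (z.im : ZMod 4)⟩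
  map_one' := by ext <;> simp [QuadraticAlgebra.re_one, QuadraticAlgebra.im_one]
  map_zero' := by ext <;> simp
  map_add' z w := by ext <;> simp
  map_mul' z w := by ext <;> simp

/-- The prime above two. -/
def pi4 : R4 := ⟨1, 1⟩

/-- The imaginary unit. -/
def i4 : R4 := ⟨0, 1⟩

/-- Flattened coordinate index. -/
def flat (p : RuIdx) : ℕ := 4 * p.1.val + p.2.val

/-- Exponent of a basis row. -/
def expo (j : Fin 28) : ℕ := expPack >>> (3 * j.val) % 8

/-- Coordinate functionals. -/
def vMat (j : Fin 28) (p : RuIdx) : R4 :=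
  ⟨((vRe >>> (2 * (28 * j.val + flat p)) % 4 : ℕ) : ZMod 4),
    ((vIm >>> (2 * (28 * j.val + flat p)) % 4 : ℕ) : ZMod 4)⟩

/-- Basis vectors. -/
def uVec (j : Fin 28) (p : RuIdx) : R4 :=
  ⟨((uRe >>> (2 * (28 * j.val + flat p)) % 4 : ℕ) : ZMod 4),
    ((uIm >>> (2 * (28 * j.val + flat p)) % 4 : ℕ) : ZMod 4)⟩

/-- Lattice basis vectors modulo four. -/
def bVec (j : Fin 28) (p : RuIdx) : R4 := pi4 ^ expo j * uVec j p

/-- Coordinates. -/
def app (j : Fin 28) (x : RuIdx → R4) : R4 := ∑ p, vMat j p * x p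

/-- The congruence conditions. -/
def InS (x : RuIdx → R4) : Prop := ∀ j, pi4 ^ (4 - expo j) * app j x = 0

instance (x : RuIdx → R4) : Decidable (InS x) :=
  inferInstanceAs (Decidable (∀ j, pi4 ^ (4 - expo j) * app j x = 0))

set_option maxHeartbeats 4000000 in
theorem uv_one : ∀ p q : RuIdx, ∑ j, uVec j p * vMat j q = if p = q then 1 else 0 := by
  decide +kernel

theorem expo_lt : ∀ j, expo j < 5 := by decide +kernel

theorem divides_of_ann : ∀ (k : Fin 5) (z : R4), pi4 ^ (4 - k.val) * z = 0 →
    ∃ d, z = d * pi4 ^ k.val := by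
  decide +kernel

theorem expansion (x : RuIdx → R4) (p : RuIdx) : x p = ∑ j, app j x * uVec j p := by
  calc x p = ∑ q, (if p = q then 1 else 0) * x q := by simp
    _ = ∑ q, (∑ j, uVec j p * vMat j q) * x q := by simp only [uv_one]
    _ = ∑ q, ∑ j, uVec j p * vMat j q * x q := by simp only [Finset.sum_mul]
    _ = _ := by
      rw [Finset.sum_comm]
      refine Finset.sum_congr rfl fun j _ => ?_
      rw [app, Finset.sum_mul]
      exact Finset.sum_congr rfl fun q _ => by ring

theorem exists_coeff {x : RuIdx → R4} (h : InS x) :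
    ∃ d : Fin 28 → R4, x = ∑ j, d j • bVec j := by
  choose d hd using fun j => divides_of_ann ⟨expo j, expo_lt j⟩ (app j x) (h j)
  refine ⟨d, funext fun p => ?_⟩
  rw [expansion x p, Finset.sum_apply]
  exact Finset.sum_congr rfl fun j _ => by rw [hd j, Pi.smul_apply, smul_eq_mul, bVec]; ring

theorem app_add (j : Fin 28) (x y : RuIdx → R4) : app j (x + y) = app j x + app j y := by
  simp only [app, Pi.add_apply, mul_add, Finset.sum_add_distrib]

theorem app_smul (j : Fin 28) (c : R4) (x : RuIdx → R4) : app j (c • x) = c * app j x := by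
  simp only [app, Pi.smul_apply, smul_eq_mul, Finset.mul_sum, mul_left_comm]

/-- The congruence module. -/
def modS : Submodule R4 (RuIdx → R4) where
  carrier := {x | InS x}
  zero_mem' j := by simp [app]
  add_mem' {x y} hx hy j := by rw [app_add, mul_add, hx j, hy j, add_zero]
  smul_mem' c x hx j := by rw [app_smul, mul_left_comm, hx j, mul_zero]

/-- A monomial substitution. -/
def mono (c : RuIdx → R4) (σ : RuIdx → RuIdx) : (RuIdx → R4) →ₗ[R4] (RuIdx → R4) where
  toFun x p := c p * x (σ p)
  map_add' x y := funext fun p => mul_add _ _ _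
  map_smul' d x := funext fun p => by simp [mul_left_comm]

/-- The four monomial generators modulo four. -/
def monoGen : Fin 4 → (RuIdx → R4) →ₗ[R4] (RuIdx → R4) :=
  ![mono (fun p => ![i4, i4, 1, -1] p.2) (fun p => (p.1, ![1, 0, 3, 2] p.2)),
    mono (fun p => ![i4, -1, i4, 1] p.2) (fun p => (p.1, ![2, 3, 0, 1] p.2)),
    mono (fun p => if p.1 = 0 ∨ p.1 = 3 ∨ p.1 = 5 ∨ p.1 = 6 then -1 else 1) id,
    mono (fun _ => 1) (fun p => (p.1 + 1, p.2))]

set_option maxHeartbeats 4000000 in
theorem table_inS : ∀ v ∈ ruTable, InS (fun p => red4 (v p)) := by decide +kernel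

set_option maxHeartbeats 4000000 in
theorem gen_zero_inS : ∀ k, InS (monoGen 0 (bVec k)) := by decide +kernel

set_option maxHeartbeats 4000000 in
theorem gen_one_inS : ∀ k, InS (monoGen 1 (bVec k)) := by decide +kernel

set_option maxHeartbeats 4000000 in
theorem gen_two_inS : ∀ k, InS (monoGen 2 (bVec k)) := by decide +kernel

set_option maxHeartbeats 4000000 in
theorem gen_three_inS : ∀ k, InS (monoGen 3 (bVec k)) := by decide +kernel

theorem monoGen_inS (i : Fin 4) {x : RuIdx → R4} (hx : x ∈ modS) : monoGen i x ∈ modS := by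
  obtain ⟨d, rfl⟩ := exists_coeff hx
  rw [map_sum]
  refine Submodule.sum_mem _ fun k _ => ?_
  rw [map_smul]
  refine modS.smul_mem _ ?_
  fin_cases i
  exacts [gen_zero_inS k, gen_one_inS k, gen_two_inS k, gen_three_inS k]

/-- Reduction of a coordinate vector. -/
def redVec : RuVec →+ (RuIdx → R4) where
  toFun v p := red4 (v p)
  map_zero' := funext fun _ => map_zero _
  map_add' _ _ := funext fun _ => map_add _ _ _

theorem redVec_gI (v : RuVec) : redVec (gI • v) = i4 • redVec v := by
  funext p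
  show red4 (gI * v p) = i4 * red4 (v p)
  rw [map_mul]
  rfl

theorem redVec_rj (v : RuVec) : redVec (ruRj v) = monoGen 0 (redVec v) := by
  funext ⟨n, t⟩
  fin_cases t <;> simp [redVec, monoGen, mono, ruRj, red4, gI, i4]

theorem redVec_rk (v : RuVec) : redVec (ruRk v) = monoGen 1 (redVec v) := by
  funext ⟨n, t⟩
  fin_cases t <;> simp [redVec, monoGen, mono, ruRk, red4, gI, i4]

theorem redVec_sign (v : RuVec) : redVec (ruSign v) = monoGen 2 (redVec v) := by
  funext p
  simp only [redVec, monoGen, mono, ruSign, AddMonoidHom.coe_mk, ZeroHom.coe_mk, LinearMap.coe_mk,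
    AddHom.coe_mk, Matrix.cons_val_two, Matrix.tail_cons, Matrix.head_cons, id]
  split_ifs <;> simp

theorem redVec_shift (v : RuVec) : redVec (ruShift v) = monoGen 3 (redVec v) := by
  funext p
  simp [redVec, monoGen, mono, ruShift]

/-- Lattice vectors satisfy the congruences. -/
theorem redVec_mem {v : RuVec} (hv : v ∈ ruLattice) : redVec v ∈ modS := by
  have hc : (modS.toAddSubgroup).comap redVec ∈ ruClosed := by
    refine ⟨fun w hw => table_inS w hw, fun w (hw : redVec w ∈ modS) =>
      ⟨?_, ?_, ?_, ?_, ?_⟩⟩ <;> show redVec _ ∈ modS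
    · rw [redVec_gI]; exact modS.smul_mem _ hw
    · rw [redVec_rj]; exact monoGen_inS 0 hw
    · rw [redVec_rk]; exact monoGen_inS 1 hw
    · rw [redVec_sign]; exact monoGen_inS 2 hw
    · rw [redVec_shift]; exact monoGen_inS 3 hw
  rw [ruLattice, AddSubgroup.mem_sInf] at hv
  exact hv _ hc

end Cfsg.Agent.H10.Ru
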