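import Cfsg.Agent.H10.Ru.Basis

/-!
The Rudvalis lattice is even: norms are divisible by eight.
-/

set_option autoImplicit false

namespace Cfsg.Agent.H10.Ru

open Cfsg.Spor

/-- Conjugation modulo four. -/
def conj4 : R4 →+* R4 where
  toFun z := ⟨z.re, -z.im⟩
  map_one' := by ext <;> simp [QuadraticAlgebra.re_one, QuadraticAlgebra.im_one]
  map_zero' := by ext <;> simp
  map_add' z w := by ext <;> simp [add_comm]
  map_mul' z w := by ext <;> simp <;> ring

/-- The Hermitian product modulo four. -/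
def herm (x y : RuIdx → R4) : R4 := ∑ p, x p * conj4 (y p)

/-- The norm modulo eight of a residue. -/
def sq8 (a : R4) : ZMod 8 := ((a.re.val ^ 2 + a.im.val ^ 2 : ℕ) : ZMod 8)

/-- Doubling from residues modulo four to residues modulo eight. -/
def dbl : ZMod 4 →+ ZMod 8 where
  toFun a := ((2 * a.val : ℕ) : ZMod 8)
  map_zero' := by decide
  map_add' := by decide

/-- The norm modulo eight. -/
def norm8 (x : RuIdx → R4) : ZMod 8 := ∑ p, sq8 (x p)

theorem sq8_add : ∀ a b : R4, sq8 (a + b) = sq8 a + sq8 b + dbl (a * conj4 b).re := by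
  decide +kernel

theorem sq8_mul : ∀ a b : R4, sq8 (a * b) = sq8 a * sq8 b := by decide +kernel

theorem norm8_add (x y : RuIdx → R4) :
    norm8 (x + y) = norm8 x + norm8 y + dbl (herm x y).re := by
  have h : (herm x y).re = ∑ p, (x p * conj4 (y p)).re :=
    map_sum ({ toFun := QuadraticAlgebra.re, map_zero' := rfl, map_add' := fun _ _ => rfl } :
      R4 →+ ZMod 4) (fun p => x p * conj4 (y p)) Finset.univ
  simp only [norm8, Pi.add_apply, sq8_add, Finset.sum_add_distrib, h, map_sum]

theorem norm8_smul (d : R4) (x : RuIdx → R4) : norm8 (d • x) = sq8 d * norm8 x := by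
  simp only [norm8, Pi.smul_apply, smul_eq_mul, sq8_mul, Finset.mul_sum]

set_option maxHeartbeats 4000000 in
theorem herm_basis : ∀ j k, herm (bVec j) (bVec k) = 0 := by decide +kernel

theorem norm8_basis : ∀ j, norm8 (bVec j) = 0 := by decide +kernel

theorem herm_sum_right (x : RuIdx → R4) (s : Finset (Fin 28)) (d : Fin 28 → R4) :
    herm x (∑ k ∈ s, d k • bVec k) = ∑ k ∈ s, conj4 (d k) * herm x (bVec k) := by
  simp only [herm, Finset.sum_apply, Pi.smul_apply, smul_eq_mul, map_sum, map_mul, Finset.mul_sum,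
    mul_left_comm]
  exact Finset.sum_comm

theorem herm_smul_left (c : R4) (x y : RuIdx → R4) : herm (c • x) y = c * herm x y := by
  simp only [herm, Pi.smul_apply, smul_eq_mul, Finset.mul_sum, mul_assoc]

theorem norm8_modS {x : RuIdx → R4} (hx : x ∈ modS) : norm8 x = 0 := by
  obtain ⟨d, rfl⟩ := exists_coeff hx
  induction (Finset.univ : Finset (Fin 28)) using Finset.induction_on with
  | empty => simp [norm8, sq8]
  | @insert a s ha ih =>
    rw [Finset.sum_insert ha, norm8_add, ih, norm8_smul, norm8_basis, herm_smul_left,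
      herm_sum_right]
    simp [herm_basis]

theorem sq8_red (z : GaussianInt) : ((z.norm : ℤ) : ZMod 8) = sq8 (red4 z) := by
  have key : ∀ a : ℤ, ((a * a : ℤ) : ZMod 8) = (((a : ZMod 4).val ^ 2 : ℕ) : ZMod 8) := by
    have h8 : ∀ b : ZMod 8, b * b = (((b.val : ZMod 4).val ^ 2 : ℕ) : ZMod 8) := by decide
    intro a
    have h := h8 (a : ZMod 8)
    have e : (((a : ZMod 8).val : ℕ) : ZMod 4) = (a : ZMod 4) := by
      rw [← Int.cast_natCast, ZMod.val_intCast]
      have hd : (4 : ℤ) ∣ a - a % (8 : ℕ) := by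
        exact ⟨2 * (a / 8), by push_cast; omega⟩
      exact (((ZMod.intCast_eq_intCast_iff_dvd_sub _ _ 4).mpr hd))
    rw [Int.cast_mul, h, e]
  show ((z.norm : ℤ) : ZMod 8) = _
  rw [Zsqrtd.norm_def, show z.re * z.re - -1 * z.im * z.im = z.re * z.re + z.im * z.im by ring,
    Int.cast_add, key, key, sq8, Nat.cast_add]
  rfl

theorem eight_dvd_norm {v : RuVec} (hv : v ∈ ruLattice) : (8 : ℤ) ∣ ruNorm v := by
  have h : ((ruNorm v : ℤ) : ZMod 8) = norm8 (redVec v) := by
    simp only [ruNorm, norm8, Int.cast_sum, sq8_red]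
    rfl
  rw [norm8_modS (redVec_mem hv)] at h
  exact (ZMod.intCast_zmod_eq_zero_iff_dvd _ 8).mp h

end Cfsg.Agent.H10.Ru
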