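import Cfsg.Agent.H10.Ru.Even

/-!
The Rudvalis lattice has no vectors of norm eight.
-/

set_option autoImplicit false

namespace Cfsg.Agent.H10.Ru

open Cfsg.Spor

/-- Parity of a residue. -/
def par4 : R4 →+* ZMod 2 where
  toFun z := ((z.re.val + z.im.val : ℕ) : ZMod 2)
  map_one' := by decide
  map_zero' := by decide
  map_add' := by decide +kernel
  map_mul' := by decide +kernel

theorem par4_of_ann : ∀ (k : Fin 4) (a : R4), pi4 ^ k.val * a = 0 → par4 a = 0 := by decide +kernel

theorem two_mul_of_ann : ∀ (k : Fin 3) (a : R4), pi4 ^ k.val * a = 0 → 2 * a = 0 := by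
  decide +kernel

/-- Parity vector of a residue vector. -/
def parVec (x : RuIdx → R4) (p : RuIdx) : ZMod 2 := par4 (x p)

/-- A word given by a bit mask. -/
def word (m : ℕ) (p : RuIdx) : ZMod 2 := if m.testBit (flat p) then 1 else 0

theorem word_zero : word 0 = 0 := funext fun p => by simp [word]

theorem word_xor (a b : ℕ) : word (a ^^^ b) = word a + word b := funext fun p => by
  simp only [word, Nat.testBit_xor, Pi.add_apply]
  cases a.testBit (flat p) <;> cases b.testBit (flat p) <;> decide

/-- The parity mask of a basis vector. -/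
def uMask (j : Fin 28) : ℕ := uPar >>> (28 * j.val) % 2 ^ 28

set_option maxHeartbeats 4000000 in
theorem word_uMask : ∀ j p, word (uMask j) p = par4 (uVec j p) := by decide +kernel

/-- All exclusive sums of a list of masks. -/
def spanList : List ℕ → List ℕ
  | [] => [0]
  | m :: l => let r := spanList l; r ++ r.map (m ^^^ ·)

theorem sum_mem_span (c : Fin 28 → ZMod 2) : ∀ L : List (Fin 28),
    ∃ m ∈ spanList (L.map uMask), word m = (L.map fun j => c j • word (uMask j)).sum
  | [] => ⟨0, by simp [spanList], word_zero⟩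
  | j :: L => by
    obtain ⟨m, hm, e⟩ := sum_mem_span c L
    rcases (show ∀ a : ZMod 2, a = 0 ∨ a = 1 by decide) (c j) with h | h
    · exact ⟨m, by simp [spanList, hm], by simp [e, h]⟩
    · refine ⟨uMask j ^^^ m, ?_, by simp [word_xor, e, h]⟩
      simp only [List.map_cons, spanList]
      exact List.mem_append_right _ (List.mem_map_of_mem hm)

/-- Rows of exponent at most `l`. -/
def rowsLe (l : ℕ) : List (Fin 28) := (List.finRange 28).filter fun j => expo j ≤ l

theorem parity_rows {l : ℕ} {x y : RuIdx → R4} (hy : x = pi4 ^ l • y) (hx : x ∈ modS) :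
    ∀ j, l < expo j → par4 (app j y) = 0 := by
  intro j hj
  have h := hx j
  rw [hy, app_smul, ← mul_assoc, ← pow_add] at h
  exact par4_of_ann ⟨4 - expo j + l, by have := expo_lt j; omega⟩ _ h

theorem parVec_mem_span {l : ℕ} {y : RuIdx → R4} (h : ∀ j, l < expo j → par4 (app j y) = 0) :
    ∃ m ∈ spanList ((rowsLe l).map uMask), word m = parVec y := by
  obtain ⟨m, hm, e⟩ := sum_mem_span (fun j => par4 (app j y)) (rowsLe l)
  refine ⟨m, hm, e.trans (funext fun p => ?_)⟩
  rw [parVec, expansion y p, map_sum]
  simp only [map_mul, ← word_uMask]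
  rw [rowsLe, ← List.sum_toFinset _ ((List.nodup_finRange 28).filter _), Finset.sum_apply]
  refine Finset.sum_subset (Finset.subset_univ _) fun j _ hj => ?_
  have : l < expo j := by simpa [rowsLe] using hj
  rw [h j this, zero_smul, Pi.zero_apply]

/-- Weight of a word. -/
def wt (w : RuIdx → ZMod 2) : ℕ := (Finset.univ.filter fun p => w p ≠ 0).card

/-- The mask of a quaternion block. -/
def block (n : Fin 7) : ℕ := 15 <<< (4 * n.val)

set_option maxHeartbeats 4000000 in
theorem span_zero_small : ∀ m ∈ spanList ((rowsLe 0).map uMask), wt (word m) ≤ 8 →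
    m = 0 ∨ ∃ a b : Fin 7, a < b ∧ m = block a ||| block b := by
  decide +kernel

set_option maxHeartbeats 4000000 in
theorem span_one_small : ∀ m ∈ spanList ((rowsLe 1).map uMask), wt (word m) ≤ 4 →
    m = 0 ∨ ∃ a : Fin 7, m = block a := by
  decide +kernel

theorem par_col_two : ∀ p q : RuIdx, p ≠ q →
    ∃ j : Fin 28, 2 < expo j ∧ par4 (vMat j p) + par4 (vMat j q) ≠ 0 := by
  decide +kernel

theorem par_col_one : ∀ p : RuIdx, ∃ j : Fin 28, 3 < expo j ∧ par4 (vMat j p) ≠ 0 := by
  decide +kernel

theorem par_app (j : Fin 28) (y : RuIdx → R4) :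
    par4 (app j y) = ∑ p, par4 (vMat j p) * parVec y p := by
  simp only [app, parVec, map_sum, map_mul]

theorem sum_weight_one {w : RuIdx → ZMod 2} (f : RuIdx → ZMod 2) :
    ∑ p, f p * w p = ∑ p ∈ Finset.univ.filter (fun p => w p ≠ 0), f p := by
  rw [Finset.sum_filter]
  refine Finset.sum_congr rfl fun p _ => ?_
  rcases (show ∀ a : ZMod 2, a = 0 ∨ a = 1 by decide) (w p) with h | h <;> simp [h]

/-- The pattern residue of a block. -/
def pat (s : Fin 16) (t : Fin 4) : R4 := if s.val.testBit t.val then i4 else 1

/-- Block contribution modulo two. -/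
def blockApp (j : Fin 28) (n : Fin 7) (s : Fin 16) : R4 :=
  2 * ∑ t, vMat j (n, t) * pat s t

/-- Encode a doubled residue in two bits. -/
def bits2 (a : R4) : ℕ := a.re.val / 2 + 2 * (a.im.val / 2)

/-- Encode values on a list of rows. -/
def code (rows : List (Fin 28)) (f : Fin 28 → R4) : ℕ :=
  (rows.map fun j => bits2 (f j)).foldl (fun acc x => 4 * acc + x) 0

/-- Rows of exponent above `l`. -/
def rowsGt (l : ℕ) : List (Fin 28) := (List.finRange 28).filter fun j => l < expo j

set_option maxHeartbeats 4000000 in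
theorem syn_zero_spec : ∀ n s, syn_zero n s = code (rowsGt 1) (fun j => blockApp j n s) := by
  decide +kernel

theorem syn_one_spec : ∀ n s, syn_one n s = code (rowsGt 2) (fun j => blockApp j n s) := by
  decide +kernel

theorem syn_zero_ne : ∀ a b : Fin 7, a < b → ∀ s r, syn_zero a s ≠ syn_zero b r := by
  decide +kernel

theorem syn_one_ne : ∀ a s, syn_one a s ≠ 0 := by decide +kernel

/-- The residues of units modulo two. -/
theorem two_mul_unit : ∀ z : R4, sq8 z = 1 → 2 * z = 2 * i4 ∨ 2 * z = 2 * 1 := by decide +kernel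

theorem exists_pattern {y : RuIdx → R4} (n : Fin 7) (h : ∀ t, sq8 (y (n, t)) = 1) :
    ∃ s, ∀ j, 2 * ∑ t, vMat j (n, t) * y (n, t) = blockApp j n s := by
  have key : ∀ f : Fin 4 → Bool, ∃ s : Fin 16, ∀ t : Fin 4, s.val.testBit t.val = f t := by
    decide +kernel
  obtain ⟨s, hs⟩ := key fun t => decide (2 * y (n, t) = 2 * i4)
  refine ⟨s, fun j => ?_⟩
  rw [blockApp, Finset.mul_sum, Finset.mul_sum]
  refine Finset.sum_congr rfl fun t _ => ?_
  rw [mul_left_comm, mul_left_comm 2 (vMat j (n, t))]
  congr 1
  simp only [pat, hs t, decide_eq_true_eq]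
  split_ifs with hh
  · exact hh
  · exact (two_mul_unit _ (h t)).resolve_left hh

theorem word_block : ∀ (n : Fin 7) p, word (block n) p = if p.1 = n then 1 else 0 := by
  decide +kernel

theorem word_blocks : ∀ (a b : Fin 7) p,
    word (block a ||| block b) p = if p.1 = a ∨ p.1 = b then 1 else 0 := by
  decide +kernel

theorem card_blocks : ∀ a b : Fin 7, a < b →
    (Finset.univ.filter fun p : RuIdx => p.1 = a ∨ p.1 = b).card = 8 := by
  decide +kernel

theorem card_block : ∀ a : Fin 7, (Finset.univ.filter fun p : RuIdx => p.1 = a).card = 4 := by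
  decide +kernel

/-! Integer side. -/

theorem two_norm (z : GaussianInt) : z.norm = z.re * z.re + z.im * z.im := by
  rw [Zsqrtd.norm_def]; ring

theorem norm_pos_of_par {z : GaussianInt} (h : par4 (red4 z) ≠ 0) : 1 ≤ z.norm := by
  rcases eq_or_ne z 0 with rfl | hz
  · simp at h
  · have := GaussianInt.norm_pos.mpr hz; omega

theorem par_int (z : GaussianInt) : par4 (red4 z) = ((z.re + z.im : ℤ) : ZMod 2) := by
  have key : ∀ a : ℤ, (((a : ZMod 4).val : ℕ) : ZMod 2) = (a : ZMod 2) := fun a => by
    rw [← Int.cast_natCast, ZMod.val_intCast, ZMod.intCast_eq_intCast_iff_dvd_sub]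
    exact ⟨2 * (a / 4), by push_cast; omega⟩
  show (((z.re : ZMod 4).val + (z.im : ZMod 4).val : ℕ) : ZMod 2) = _
  rw [Nat.cast_add, key, key, Int.cast_add]

theorem exists_half {z : GaussianInt} (h : par4 (red4 z) = 0) :
    ∃ y : GaussianInt, z = ⟨1, 1⟩ * y := by
  rw [par_int, ZMod.intCast_zmod_eq_zero_iff_dvd] at h
  obtain ⟨k, hk⟩ := h
  refine ⟨⟨k, k - z.re⟩, ?_⟩
  ext <;> simp only [Zsqrtd.re_mul, Zsqrtd.im_mul] <;> push_cast at hk <;> omega

theorem exists_half_vec {x : RuVec} (h : parVec (redVec x) = 0) :
    ∃ y : RuVec, redVec x = pi4 • redVec y ∧ ruNorm x = 2 * ruNorm y := by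
  choose y hy using fun p => exists_half (congr_fun h p)
  refine ⟨y, funext fun p => ?_, ?_⟩
  · show red4 (x p) = pi4 * red4 (y p)
    rw [hy p, map_mul]
    rfl
  · simp only [ruNorm, Finset.mul_sum]
    refine Finset.sum_congr rfl fun p _ => ?_
    rw [hy p, Zsqrtd.norm_mul]
    rfl

theorem wt_le_norm (x : RuVec) : (wt (parVec (redVec x)) : ℤ) ≤ ruNorm x := by
  rw [wt, Finset.cast_card, ruNorm]
  refine (Finset.sum_le_sum fun p hp => ?_).trans
    (Finset.sum_le_sum_of_subset_of_nonneg (Finset.subset_univ _) fun p _ _ =>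
      GaussianInt.norm_nonneg (x p))
  exact norm_pos_of_par (Finset.mem_filter.mp hp).2

theorem units_of_tight {x : RuVec} (h : (wt (parVec (redVec x)) : ℤ) = ruNorm x) (p : RuIdx) :
    (parVec (redVec x) p ≠ 0 → sq8 (redVec x p) = 1) ∧
      (parVec (redVec x) p = 0 → redVec x p = 0) := by
  have hle : ∀ q ∈ (Finset.univ : Finset RuIdx),
      (if parVec (redVec x) q ≠ 0 then (1 : ℤ) else 0) ≤ (x q).norm := by
    intro q _
    split_ifs with hq
    · exact norm_pos_of_par hq
    · exact GaussianInt.norm_nonneg _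
  have hs : ∑ q, (if parVec (redVec x) q ≠ 0 then (1 : ℤ) else 0) = ∑ q, (x q).norm := by
    rw [Finset.sum_boole]
    exact h
  have e := (Finset.sum_eq_sum_iff_of_le hle).mp hs p (Finset.mem_univ _)
  refine ⟨fun hp => ?_, fun hp => ?_⟩
  · rw [if_pos hp] at e
    show sq8 (red4 (x p)) = 1
    rw [← sq8_red, ← e, Int.cast_one]
  · rw [if_neg (not_not.mpr hp)] at e
    show red4 (x p) = 0
    rw [show x p = 0 from GaussianInt.norm_eq_zero.mp e.symm, map_zero]

theorem two_rows {l : ℕ} {x y : RuIdx → R4} (hy : x = pi4 ^ l • y) (hx : x ∈ modS) {j : Fin 28}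
    (hj : l + 1 < expo j) : 2 * app j y = 0 := by
  have h := hx j
  rw [hy, app_smul, ← mul_assoc, ← pow_add] at h
  exact two_mul_of_ann ⟨4 - expo j + l, by have := expo_lt j; omega⟩ _ h

/-- The norm is never eight. -/
theorem norm_ne_eight {x : RuVec} (hx : x ∈ ruLattice) : ruNorm x ≠ 8 := by
  intro h8
  have hS := redVec_mem hx
  have h0 : redVec x = pi4 ^ 0 • redVec x := by simp
  obtain ⟨m, hm, hw⟩ := parVec_mem_span (parity_rows h0 hS)
  have hwle := wt_le_norm x
  rcases span_zero_small m hm (by rw [hw]; omega) with rfl | ⟨a, b, hab, rfl⟩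
  swap
  · have hsupp : ∀ p, parVec (redVec x) p = if p.1 = a ∨ p.1 = b then 1 else 0 := fun p => by
      rw [← hw, word_blocks]
    have hwt : wt (parVec (redVec x)) = 8 := by
      refine Eq.trans ?_ (card_blocks a b hab)
      exact congrArg Finset.card (Finset.filter_congr fun p _ => by
        rw [hsupp]; split_ifs with hp <;> simp [hp])
    have hu := units_of_tight (x := x) (by omega)
    have hzero : ∀ n, n ≠ a ∧ n ≠ b → ∀ t, redVec x (n, t) = 0 := fun n hn t =>
      (hu _).2 (by rw [hsupp, if_neg (not_or.mpr hn)])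
    obtain ⟨s, hs⟩ := exists_pattern (y := redVec x) a fun t => (hu _).1 (by simp [hsupp])
    obtain ⟨r, hr⟩ := exists_pattern (y := redVec x) b fun t => (hu _).1 (by simp [hsupp])
    refine syn_zero_ne a b hab s r ?_
    rw [syn_zero_spec, syn_zero_spec, code, code]
    congr 1
    refine List.map_congr_left fun j hj => ?_
    have h2 := two_rows h0 hS (j := j) (by simpa [rowsGt] using hj)
    rw [app, Fintype.sum_prod_type, Finset.sum_eq_add (a := a) (b := b) hab.ne
      (fun n _ hn => Finset.sum_eq_zero fun t _ => by rw [hzero n hn t, mul_zero])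
      (by simp) (by simp), mul_add, hs, hr] at h2
    congr 1
    rw [add_eq_zero_iff_eq_neg.mp h2]
    have hneg : ∀ z : R4, -(2 * z) = 2 * z := by decide +kernel
    exact hneg _
  · rw [word_zero] at hw
    obtain ⟨y, hy, hn⟩ := exists_half_vec hw.symm
    have h1 : redVec x = pi4 ^ 1 • redVec y := by rw [pow_one]; exact hy
    obtain ⟨m, hm, hwy⟩ := parVec_mem_span (parity_rows h1 hS)
    have hwle := wt_le_norm y
    rcases span_one_small m hm (by rw [hwy]; omega) with rfl | ⟨a, rfl⟩
    swap
    · have hsupp : ∀ p, parVec (redVec y) p = if p.1 = a then 1 else 0 := fun p => by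
        rw [← hwy, word_block]
      have hwt : wt (parVec (redVec y)) = 4 := by
        refine Eq.trans ?_ (card_block a)
        exact congrArg Finset.card (Finset.filter_congr fun p _ => by
          rw [hsupp]; split_ifs with hp <;> simp [hp])
      have hu := units_of_tight (x := y) (by omega)
      have hzero : ∀ n, n ≠ a → ∀ t, redVec y (n, t) = 0 := fun n hn t =>
        (hu _).2 (by rw [hsupp, if_neg hn])
      obtain ⟨s, hs⟩ := exists_pattern (y := redVec y) a fun t => (hu _).1 (by simp [hsupp])
      refine syn_one_ne a s ?_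
      rw [syn_one_spec, code]
      have hall : ∀ j ∈ rowsGt 2, bits2 (blockApp j a s) = 0 := fun j hj => by
        have h2 := two_rows h1 hS (j := j) (by simpa [rowsGt] using hj)
        rw [app, Fintype.sum_prod_type, Finset.sum_eq_single a
          (fun n _ hn => Finset.sum_eq_zero fun t _ => by rw [hzero n hn t, mul_zero])
          (by simp), hs] at h2
        rw [h2]
        rfl
      rw [List.map_congr_left hall]
      decide +kernel
    · rw [word_zero] at hwy
      obtain ⟨z, hz, hnz⟩ := exists_half_vec hwy.symm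
      have h2 : redVec x = pi4 ^ 2 • redVec z := by rw [h1, hz, smul_smul, ← pow_succ]
      have hpz := parity_rows h2 hS
      have hwle := wt_le_norm z
      have hc : wt (parVec (redVec z)) ≤ 2 := by omega
      have hwz : parVec (redVec z) = 0 := by
        by_contra hne
        rcases Nat.lt_or_ge (wt (parVec (redVec z))) 2 with hlt | hge
        · rcases Nat.lt_or_ge (wt (parVec (redVec z))) 1 with h0' | h1'
          · refine hne (funext fun p => ?_)
            by_contra hp
            have : 0 < wt (parVec (redVec z)) :=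
              Finset.card_pos.mpr ⟨p, Finset.mem_filter.mpr ⟨Finset.mem_univ _, hp⟩⟩
            omega
          · obtain ⟨p, hp⟩ := Finset.card_eq_one.mp
              (show (Finset.univ.filter fun p => parVec (redVec z) p ≠ 0).card = 1 from
                le_antisymm (Nat.lt_succ_iff.mp hlt) h1')
            obtain ⟨j, hj, hj'⟩ := par_col_one p
            apply hj'
            have := hpz j (by omega)
            rw [par_app, sum_weight_one, hp, Finset.sum_singleton] at this
            exact this
        · obtain ⟨p, q, hpq, hp⟩ := Finset.card_eq_two.mp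
            (show (Finset.univ.filter fun p => parVec (redVec z) p ≠ 0).card = 2 from
              le_antisymm hc hge)
          obtain ⟨j, hj, hj'⟩ := par_col_two p q hpq
          apply hj'
          have := hpz j hj
          rw [par_app, sum_weight_one, hp, Finset.sum_pair hpq] at this
          exact this
      obtain ⟨t, ht, hnt⟩ := exists_half_vec hwz
      have h3 : redVec x = pi4 ^ 3 • redVec t := by rw [h2, ht, smul_smul, ← pow_succ]
      have hpt := parity_rows h3 hS
      have hwle := wt_le_norm t
      have hwt : parVec (redVec t) = 0 := by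
        by_contra hne
        obtain ⟨p, hp'⟩ := Function.ne_iff.mp hne
        obtain ⟨q, hp⟩ := Finset.card_eq_one.mp
          (show (Finset.univ.filter fun p => parVec (redVec t) p ≠ 0).card = 1 from
            le_antisymm (by have : wt (parVec (redVec t)) ≤ 1 := by omega
                            exact this)
              (Finset.card_pos.mpr ⟨p, Finset.mem_filter.mpr ⟨Finset.mem_univ _, hp'⟩⟩))
        obtain ⟨j, hj, hj'⟩ := par_col_one q
        apply hj'
        have := hpt j hj
        rw [par_app, sum_weight_one, hp, Finset.sum_singleton] at this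
        exact this
      obtain ⟨u, -, hnu⟩ := exists_half_vec hwt
      omega

end Cfsg.Agent.H10.Ru
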